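import Mathlib

/-!
The number of nilpotent endomorphisms of an `n`-dimensional space over a field with `q` elements
is `q ^ (n (n - 1))` (Fine-Herstein), by counting pairs (nilpotent map, vector) through the
cyclic subspace of the vector.
-/

namespace Cfsg.Agent.Lib.NilpotentCount

open Module

variable {F : Type*} [Field F] {V : Type*} [AddCommGroup V] [Module F V]

/-- Orbit condition: `f` shifts the tuple `u` and kills its last entry. -/
def IsShift {k : ℕ} (u : Fin k → V) (f : Module.End F V) : Prop :=
  ∀ i : Fin k, f (u i) = if h : (i : ℕ) + 1 < k then u ⟨i + 1, h⟩ else 0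

/-- The first `k` powers of a nilpotent orbit of exact length `k` are independent. -/
theorem linearIndependent_orbit (f : Module.End F V) (v : V) (k : ℕ) (hk : (f ^ k) v = 0)
    (hmin : ∀ i < k, (f ^ i) v ≠ 0) :
    LinearIndependent F (fun i : Fin k => (f ^ (i : ℕ)) v) := by
  classical
  rw [Fintype.linearIndependent_iff]
  intro c hc
  by_contra hne
  push Not at hne
  obtain ⟨i₀, hi₀⟩ := hne
  obtain ⟨i, hi, hmin'⟩ := Finset.exists_min_image
    (Finset.univ.filter fun j : Fin k => c j ≠ 0) id ⟨i₀, by simpa using hi₀⟩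
  simp only [Finset.mem_filter, Finset.mem_univ, true_and] at hi hmin'
  have h0 := congrArg (f ^ (k - 1 - (i : ℕ))) hc
  rw [map_zero, map_sum] at h0
  rw [Finset.sum_eq_single i] at h0
  · rw [map_smul, ← Module.End.mul_apply, ← pow_add, smul_eq_zero] at h0
    have : k - 1 - (i : ℕ) + i = k - 1 := by omega
    rw [this] at h0
    exact h0.elim hi (hmin (k - 1) (by omega))
  · intro j _ hji
    by_cases hj : c j = 0
    · rw [hj, zero_smul, map_zero]
    · have hlt : (i : ℕ) < j := lt_of_le_of_ne (hmin' j hj) (fun h => hji (Fin.ext h.symm))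
      rw [map_smul, ← Module.End.mul_apply, ← pow_add,
        show k - 1 - (i : ℕ) + j = (j - i - 1) + k by omega, pow_add, Module.End.mul_apply, hk,
        map_zero, smul_zero]
  · intro h; exact absurd (Finset.mem_univ i) h

theorem IsShift.pow_apply {k : ℕ} {u : Fin k → V} {f : Module.End F V} (h : IsShift u f)
    (hk : 0 < k) : ∀ i (hi : i < k), (f ^ i) (u ⟨0, hk⟩) = u ⟨i, hi⟩ := by
  intro i
  induction i with
  | zero => intro hi; simp
  | succ i ih =>
    intro hi
    rw [pow_succ', Module.End.mul_apply, ih (by omega), h, dif_pos hi]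

theorem IsShift.pow_eq_zero {k : ℕ} {u : Fin k → V} {f : Module.End F V} (h : IsShift u f)
    (hk : 0 < k) : (f ^ k) (u ⟨0, hk⟩) = 0 := by
  obtain ⟨m, rfl⟩ : ∃ m, k = m + 1 := ⟨k - 1, by omega⟩
  rw [pow_succ', Module.End.mul_apply, h.pow_apply hk m (by omega), h, dif_neg (by simp)]

theorem IsShift.pow_kills {k : ℕ} {u : Fin k → V} {f : Module.End F V} (h : IsShift u f) :
    ∀ w ∈ Submodule.span F (Set.range u), (f ^ k) w = 0 := by
  intro w hw
  have hle : Submodule.span F (Set.range u) ≤ LinearMap.ker (f ^ k) := by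
    rw [Submodule.span_le]
    rintro _ ⟨i, rfl⟩
    rw [SetLike.mem_coe, LinearMap.mem_ker, ← h.pow_apply (by have := i.2; omega) i i.2,
      ← Module.End.mul_apply, ← pow_add, add_comm, pow_add, Module.End.mul_apply,
      h.pow_eq_zero, map_zero]
  exact hle hw

theorem IsShift.mem_span {k : ℕ} {u : Fin k → V} {f : Module.End F V} (h : IsShift u f) :
    ∀ w ∈ Submodule.span F (Set.range u), f w ∈ Submodule.span F (Set.range u) := by
  intro w hw
  have hle : Submodule.span F (Set.range u) ≤ (Submodule.span F (Set.range u)).comap f := by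
    rw [Submodule.span_le]
    rintro _ ⟨i, rfl⟩
    rw [SetLike.mem_coe, Submodule.mem_comap, h i]
    split
    · exact Submodule.subset_span ⟨_, rfl⟩
    · exact zero_mem _
  exact hle hw

variable {W U : Submodule F V}

/-- The lower diagonal block of a map. -/
noncomputable def blockEnd (hU : IsCompl W U) (f : Module.End F V) : Module.End F U :=
  (U.projectionOnto W hU.symm).comp ((f : V →ₗ[F] V).comp U.subtype)

theorem decompose (hU : IsCompl W U) (v : V) :
    ((W.projectionOnto U hU v : W) : V) + ((U.projectionOnto W hU.symm v : U) : V) = v := by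
  rw [Submodule.coe_projectionOnto_apply, Submodule.coe_projectionOnto_apply]
  exact Submodule.projection_add_projection_eq_self hU v

theorem blockEnd_pow (hU : IsCompl W U) (f : Module.End F V) (hW : ∀ w ∈ W, f w ∈ W) :
    ∀ (j : ℕ) (v : V), U.projectionOnto W hU.symm ((f ^ j) v) =
      (blockEnd hU f ^ j) (U.projectionOnto W hU.symm v) := by
  have key : ∀ v, U.projectionOnto W hU.symm (f v) =
      blockEnd hU f (U.projectionOnto W hU.symm v) := by
    intro v
    conv_lhs => rw [← decompose hU v]
    rw [map_add, map_add,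
      (Submodule.projectionOnto_apply_eq_zero_iff hU.symm).mpr (hW _ (Submodule.coe_mem _)),
      zero_add]
    rfl
  intro j
  induction j with
  | zero => intro v; simp
  | succ j ih => intro v; rw [pow_succ', Module.End.mul_apply, key, ih, pow_succ',
      Module.End.mul_apply]

theorem isNilpotent_iff_block {k : ℕ} {u : Fin k → V} {f : Module.End F V} (h : IsShift u f)
    {U : Submodule F V} (hU : IsCompl (Submodule.span F (Set.range u)) U) :
    IsNilpotent f ↔ IsNilpotent (blockEnd hU f) := by
  constructor
  · rintro ⟨m, hm⟩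
    refine ⟨m, LinearMap.ext fun x => ?_⟩
    have := blockEnd_pow hU f h.mem_span m (x : V)
    rw [Submodule.projectionOnto_apply_left, hm, LinearMap.zero_apply, map_zero] at this
    exact this.symm
  · rintro ⟨m, hm⟩
    refine ⟨k + m, LinearMap.ext fun v => ?_⟩
    have := blockEnd_pow hU f h.mem_span m v
    rw [hm, LinearMap.zero_apply, Submodule.projectionOnto_apply_eq_zero_iff] at this
    rw [pow_add, Module.End.mul_apply, h.pow_kills _ this, LinearMap.zero_apply]

/-- The map with given shift, off-diagonal and diagonal blocks. -/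
noncomputable def blockMap {k : ℕ} (u : Fin k → V) (hu : LinearIndependent F u)
    (U : Submodule F V) (hU : IsCompl (Submodule.span F (Set.range u)) U)
    (A : U →ₗ[F] Submodule.span F (Set.range u)) (M : Module.End F U) : Module.End F V :=
  LinearMap.ofIsCompl hU
    ((Basis.span hu).constr F fun i => if h : (i : ℕ) + 1 < k then u ⟨i + 1, h⟩ else 0)
    ((Submodule.span F (Set.range u)).subtype.comp A + U.subtype.comp M)

theorem blockMap_shift {k : ℕ} (u : Fin k → V) (hu : LinearIndependent F u)
    (U : Submodule F V) (hU : IsCompl (Submodule.span F (Set.range u)) U)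
    (A : U →ₗ[F] Submodule.span F (Set.range u)) (M : Module.End F U) :
    IsShift u (blockMap u hu U hU A M) := by
  intro i
  have e : u i = ((Basis.span hu i : Submodule.span F (Set.range u)) : V) := by
    rw [Basis.span_apply]
  conv_lhs => rw [e]
  rw [blockMap, LinearMap.ofIsCompl_apply_left, Basis.constr_basis]

theorem blockMap_block {k : ℕ} (u : Fin k → V) (hu : LinearIndependent F u)
    (U : Submodule F V) (hU : IsCompl (Submodule.span F (Set.range u)) U)
    (A : U →ₗ[F] Submodule.span F (Set.range u)) (M : Module.End F U) :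
    blockEnd hU (blockMap u hu U hU A M) = M := by
  apply LinearMap.ext
  intro x
  simp [blockEnd, blockMap]

/-- Nilpotent maps with a prescribed shifted independent tuple: arbitrary off-diagonal block and
nilpotent map on a complement. -/
noncomputable def shiftFibreEquiv {k : ℕ} (u : Fin k → V) (hu : LinearIndependent F u)
    (U : Submodule F V) (hU : IsCompl (Submodule.span F (Set.range u)) U) :
    {f : Module.End F V // IsNilpotent f ∧ IsShift u f} ≃
      (U →ₗ[F] Submodule.span F (Set.range u)) × {M : Module.End F U // IsNilpotent M} where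
  toFun f :=
    ((Submodule.projectionOnto _ U hU).comp ((f.1 : V →ₗ[F] V).comp U.subtype),
      ⟨blockEnd hU f.1, (isNilpotent_iff_block f.2.2 hU).mp f.2.1⟩)
  invFun p :=
    ⟨blockMap u hu U hU p.1 p.2.1,
      (isNilpotent_iff_block (blockMap_shift u hu U hU p.1 p.2.1) hU).mpr
        (by rw [blockMap_block]; exact p.2.2),
      blockMap_shift u hu U hU p.1 p.2.1⟩
  left_inv f := by
    apply Subtype.ext
    have h1 : (f.1 : V →ₗ[F] V).comp (Submodule.span F (Set.range u)).subtype =
        (Basis.span hu).constr F fun i => if h : (i : ℕ) + 1 < k then u ⟨i + 1, h⟩ else 0 :=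
      (Basis.span hu).ext fun i => by
        rw [Basis.constr_basis, LinearMap.comp_apply, Submodule.subtype_apply, Basis.span_apply]
        exact f.2.2 i
    refine LinearMap.ofIsCompl_eq hU (fun x => (LinearMap.congr_fun h1 x).symm) (fun x => ?_)
    exact decompose hU _
  right_inv p := by
    refine Prod.ext (LinearMap.ext fun x => ?_) (Subtype.ext (blockMap_block u hu U hU p.1 p.2.1))
    simp [blockMap]

variable [Fintype F] [FiniteDimensional F V]

theorem card_shift_fibre {k : ℕ} (u : Fin k → V) (hu : LinearIndependent F u) (N : ℕ)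
    (hN : ∀ U : Submodule F V, finrank F U + k = finrank F V →
      Nat.card {M : Module.End F U // IsNilpotent M} = N) :
    Nat.card {f : Module.End F V // IsNilpotent f ∧ IsShift u f} =
      Fintype.card F ^ (k * (finrank F V - k)) * N := by
  obtain ⟨U, hU⟩ := (Submodule.span F (Set.range u)).exists_isCompl
  have hW : finrank F (Submodule.span F (Set.range u)) = k := by
    rw [finrank_span_eq_card hu, Fintype.card_fin]
  have hdim : finrank F U + k = finrank F V := by
    have := Submodule.finrank_add_eq_of_isCompl hU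
    omega
  have : finrank F (U →ₗ[F] Submodule.span F (Set.range u)) = k * (finrank F V - k) := by
    rw [Module.finrank_linearMap, hW, show finrank F U = finrank F V - k by omega, mul_comm]
  rw [Nat.card_congr (shiftFibreEquiv u hu U hU), Nat.card_prod, hN U hdim,
    Module.natCard_eq_pow_finrank (K := F), this, Nat.card_eq_fintype_card]

/-- Pairs (tuple, map) correspond to pairs (nilpotent map, vector). -/
noncomputable def orbitMap (n : ℕ)
    (x : Σ k : Fin (n + 1), Σ u : {u : Fin k → V // LinearIndependent F u},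
      {f : Module.End F V // IsNilpotent f ∧ IsShift u.1 f}) :
    {f : Module.End F V // IsNilpotent f} × V :=
  (⟨x.2.2.1, x.2.2.2.1⟩, if h : 0 < (x.1 : ℕ) then x.2.1.1 ⟨0, h⟩ else 0)

theorem orbitMap_bijective (n : ℕ) (hn : finrank F V = n) :
    Function.Bijective (orbitMap (F := F) (V := V) n) := by
  classical
  constructor
  · rintro ⟨⟨k, hk⟩, ⟨u, hu⟩, f, hf, hfu⟩ ⟨⟨k', hk'⟩, ⟨u', hu'⟩, f', hf', hfu'⟩ h
    simp only [orbitMap, Prod.mk.injEq, Subtype.mk.injEq] at h
    obtain ⟨rfl, hv⟩ := h
    have horb : ∀ {k : ℕ} {u : Fin k → V}, LinearIndependent F u → IsShift u f →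
        ∀ v, v = (if h : 0 < k then u ⟨0, h⟩ else 0) →
        (f ^ k) v = 0 ∧ (∀ i < k, (f ^ i) v ≠ 0) ∧ u = fun i : Fin k => (f ^ (i : ℕ)) v := by
      intro k u hu hfu v hv
      rcases Nat.eq_zero_or_pos k with rfl | hpos
      · subst hv
        exact ⟨by simp, fun i hi => absurd hi (Nat.not_lt_zero i), funext fun i => i.elim0⟩
      · rw [dif_pos hpos] at hv
        subst hv
        refine ⟨hfu.pow_eq_zero hpos, fun i hi => ?_, funext fun i => (hfu.pow_apply hpos i i.2).symm⟩
        rw [hfu.pow_apply hpos i hi]
        exact hu.ne_zero _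
    obtain ⟨a1, a2, a3⟩ := horb hu hfu _ rfl
    obtain ⟨b1, b2, b3⟩ := horb hu' hfu' _ hv
    have : k = k' := by
      rcases lt_trichotomy k k' with h | h | h
      · exact absurd a1 (b2 k h)
      · exact h
      · exact absurd b1 (a2 k' h)
    subst this
    have : u = u' := a3.trans b3.symm
    subst this
    rfl
  · rintro ⟨⟨f, hf⟩, v⟩
    have hex : ∃ i, (f ^ i) v = 0 := by
      obtain ⟨m, hm⟩ := hf
      exact ⟨m, by rw [hm]; rfl⟩
    set k := Nat.find hex with hk
    have h1 : (f ^ k) v = 0 := Nat.find_spec hex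
    have h2 : ∀ i < k, (f ^ i) v ≠ 0 := fun i hi => Nat.find_min hex hi
    have hu := linearIndependent_orbit f v k h1 h2
    have hkn : k < n + 1 := by
      have := hu.fintype_card_le_finrank
      rw [Fintype.card_fin] at this
      omega
    refine ⟨⟨⟨k, hkn⟩, ⟨_, hu⟩, f, hf, fun i => ?_⟩, ?_⟩
    · split
      · rw [← Module.End.mul_apply, ← pow_succ']
      · rw [← Module.End.mul_apply, ← pow_succ', show (i : ℕ) + 1 = k by
          have := i.2; dsimp only at *; omega, h1]
    · simp only [orbitMap]
      refine Prod.ext rfl ?_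
      split
      · simp
      · rename_i h
        have : k = 0 := by simpa using h
        rw [this] at h1
        simpa using h1.symm

theorem sum_identity (q n : ℕ) : ∀ j ≤ n,
    (∑ i ∈ Finset.range j,
      (∏ l ∈ Finset.range i, ((q : ℤ) ^ n - (q : ℤ) ^ l)) * (q : ℤ) ^ ((n - 1) * (n - i))) +
      (∏ l ∈ Finset.range j, ((q : ℤ) ^ n - (q : ℤ) ^ l)) * (q : ℤ) ^ (n * (n - j)) =
      (q : ℤ) ^ (n * n) := by
  intro j
  induction j with
  | zero => intro _; simp
  | succ j ih =>
    intro hj
    rw [← ih (by omega), Finset.sum_range_succ, Finset.prod_range_succ, add_assoc]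
    congr 1
    obtain ⟨m, rfl⟩ : ∃ m, n = j + m + 1 := ⟨n - j - 1, by omega⟩
    rw [show j + m + 1 - (j + 1) = m by omega, show j + m + 1 - j = m + 1 by omega,
      show j + m + 1 - 1 = j + m by omega,
      show (j + m + 1) * (m + 1) = (j + m + 1) * m + (j + m + 1) by ring,
      show (j + m) * (m + 1) = (j + m + 1) * m + j by ring]
    simp only [pow_add, sub_mul, mul_sub]
    ring

/-- Fine-Herstein: a finite vector space of dimension `n` has `q ^ (n (n - 1))` nilpotent
endomorphisms. -/
theorem card_nilpotent.{u, v} {F : Type u} [Field F] [Fintype F] (n : ℕ) :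
    ∀ {V : Type v} [AddCommGroup V] [Module F V] [FiniteDimensional F V], finrank F V = n →
      Nat.card {f : Module.End F V // IsNilpotent f} = Fintype.card F ^ (n * (n - 1)) := by
  induction n using Nat.strong_induction_on with
  | _ n IH =>
    intro V _ _ _ hn
    rcases Nat.eq_zero_or_pos n with h0 | hpos
    · subst h0
      haveI : Subsingleton V := Module.finrank_zero_iff.mp hn
      haveI : Unique {f : Module.End F V // IsNilpotent f} :=
        ⟨⟨⟨0, IsNilpotent.zero⟩⟩, fun _ => Subtype.ext (LinearMap.ext fun _ => Subsingleton.elim _ _)⟩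
      simp
    haveI : Finite V := Module.finite_of_finite F
    haveI : Fintype V := Fintype.ofFinite V
    haveI : Finite (Module.End F V) := Module.finite_of_finite F
    set q := Fintype.card F with hq
    set L : ℕ → ℕ := fun k => ∏ i ∈ Finset.range k, (q ^ n - q ^ i) with hL
    have hcnt := Nat.card_eq_of_bijective _ (orbitMap_bijective (F := F) (V := V) n hn)
    rw [Nat.card_sigma, Nat.card_prod] at hcnt
    have hterm : ∀ k : Fin (n + 1),
        Nat.card (Σ u : {u : Fin k → V // LinearIndependent F u},
          {f : Module.End F V // IsNilpotent f ∧ IsShift u.1 f}) =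
        L k * if (k : ℕ) = 0 then Nat.card {f : Module.End F V // IsNilpotent f}
          else q ^ ((n - 1) * (n - k)) := by
      intro k
      have hkn : (k : ℕ) ≤ finrank F V := by have := k.2; omega
      have hcardL : Nat.card {u : Fin k → V // LinearIndependent F u} = L k := by
        rw [card_linearIndependent hkn, hL, hn, hq]
        exact Fin.prod_univ_eq_prod_range
          (fun i => Fintype.card F ^ n - Fintype.card F ^ i) k
      haveI : Fintype {u : Fin k → V // LinearIndependent F u} := Fintype.ofFinite _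
      rw [← hcardL, Nat.card_sigma, Nat.card_eq_fintype_card]
      rw [Finset.sum_congr rfl (fun u _ => ?_), Finset.sum_const, Finset.card_univ, smul_eq_mul]
      by_cases hk : (k : ℕ) = 0
      · rw [if_pos hk]
        refine Nat.card_congr (Equiv.subtypeEquivRight fun f => ⟨fun h => h.1, fun h => ⟨h, fun i => ?_⟩⟩)
        have := i.2; omega
      · rw [if_neg hk, card_shift_fibre u.1 u.2 (q ^ ((n - k) * (n - k - 1))) (fun U hU => ?_),
          hn, ← hq, ← pow_add]
        · congr 1
          obtain ⟨j, hj⟩ : ∃ j : ℕ, (k : ℕ) = j := ⟨_, rfl⟩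
          rw [hj] at hkn hk ⊢
          rw [hn] at hkn
          clear * - hkn hk
          obtain ⟨m, rfl⟩ : ∃ m, n = j + m := ⟨n - j, by omega⟩
          rw [show j + m - j = m by omega]
          rcases m with _ | m
          · simp
          · rw [show m + 1 - 1 = m by omega, show j + (m + 1) - 1 = j + m by omega]
            ring
        · exact IH (n - k) (by omega) (by omega)
    rw [Finset.sum_congr rfl (fun k _ => hterm k),
      Fin.sum_univ_eq_sum_range (fun k => L k * if k = 0 then
        Nat.card {f : Module.End F V // IsNilpotent f} else q ^ ((n - 1) * (n - k))),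
      Finset.sum_range_succ'] at hcnt
    simp only [if_pos, Nat.add_one_ne_zero, if_false, hL, Finset.range_zero, Finset.prod_empty,
      one_mul] at hcnt
    rw [Module.natCard_eq_pow_finrank (K := F) (V := V), hn, Nat.card_eq_fintype_card (α := F),
      ← hq] at hcnt
    have hZ := congrArg (Nat.cast (R := ℤ)) hcnt
    push_cast at hZ
    have hcast : ∀ i ∈ Finset.range n,
        ((∏ l ∈ Finset.range (i + 1), (q ^ n - q ^ l) : ℕ) : ℤ) =
          ∏ l ∈ Finset.range (i + 1), ((q : ℤ) ^ n - (q : ℤ) ^ l) := by
      intro i hi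
      rw [Nat.cast_prod]
      refine Finset.prod_congr rfl fun l hl => ?_
      rw [Nat.cast_sub (Nat.pow_le_pow_right Fintype.card_pos (by
        simp only [Finset.mem_range] at hi hl; omega))]
      push_cast
      rfl
    have hS := sum_identity q n n le_rfl
    set g : ℕ → ℤ := fun i =>
      (∏ l ∈ Finset.range i, ((q : ℤ) ^ n - (q : ℤ) ^ l)) * (q : ℤ) ^ ((n - 1) * (n - i)) with hg
    have hgn : g n = (∏ l ∈ Finset.range n, ((q : ℤ) ^ n - (q : ℤ) ^ l)) * (q : ℤ) ^ (n * (n - n)) := by
      simp [hg]
    change (∑ i ∈ Finset.range n, g i) + _ = _ at hS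
    rw [← hgn, ← Finset.sum_range_succ, Finset.sum_range_succ'] at hS
    simp only [hg] at hS
    simp only [Finset.range_zero, Finset.prod_empty, one_mul, Nat.sub_zero] at hS
    rw [Finset.sum_congr rfl (fun i hi => by
      rw [← Nat.cast_prod, hcast i hi]) ] at hZ
    set T := ∑ i ∈ Finset.range n,
      (∏ l ∈ Finset.range (i + 1), ((q : ℤ) ^ n - (q : ℤ) ^ l)) * (q : ℤ) ^ ((n - 1) * (n - (i + 1)))
    set X := Nat.card {f : Module.End F V // IsNilpotent f}
    have e1 : ((X : ℤ) - (q : ℤ) ^ ((n - 1) * n)) * ((q : ℤ) ^ n - 1) = 0 := by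
      have hpw : (q : ℤ) ^ ((n - 1) * n) * (q : ℤ) ^ n = (q : ℤ) ^ (n * n) := by
        rw [← pow_add]; congr 1
        obtain ⟨m, rfl⟩ : ∃ m, n = m + 1 := ⟨n - 1, by omega⟩
        simp; ring
      linear_combination (-1 : ℤ) * hZ + hS - hpw
    have hne : ((q : ℤ) ^ n - 1) ≠ 0 := by
      have : 1 < q ^ n := Nat.one_lt_pow hpos.ne' Fintype.one_lt_card
      intro h
      have : ((q ^ n : ℕ) : ℤ) = ((1 : ℕ) : ℤ) := by push_cast; linarith
      have := Int.natCast_inj.mp this
      omega
    have := sub_eq_zero.mp ((mul_eq_zero.mp e1).resolve_right hne)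
    rw [mul_comm n (n - 1)]
    exact_mod_cast this

end Cfsg.Agent.Lib.NilpotentCount
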